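import Mathlib
import Cfsg.Prelude.Def_OddOrderLocal
import Cfsg.Agent.Lib.Helper15.BG.Tau12Defs
import Cfsg.Agent.Lib.Helper85.BG.Tau1Semiprime
import Cfsg.Agent.Lib.Helper97.FrobFormula
import Cfsg.Agent.Lib.Helper67.BG.Basics
import Cfsg.Agent.Lib.Helper67.BG.HallUtil
import Cfsg.Agent.Lib.Helper35.BG.Hall

/-!
# Bender–Glauberman 13.12, the `M`-side: package `PkPrime` (steps (4), (5))

In a counterexample, `p` is the only prime of `τ₁(M)` dividing `|E|` and `p ^ 2 ∤ |E|`.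
-/

set_option autoImplicit false

namespace Cfsg.Agent.Lib.Helper67.BG

open Cfsg
open Cfsg.Agent.Lib.Helper15.BG.T12

universe u

/-- Two elements of a cyclic subgroup commute. -/
theorem t12_comm_of_isCyclic {G : Type u} [Group G] (H : Subgroup G) (hc : IsCyclic H)
    {a b : G} (ha : a ∈ H) (hb : b ∈ H) : a * b = b * a := by
  have h := (IsCyclic.commGroup (α := H)).mul_comm ⟨a, ha⟩ ⟨b, hb⟩
  exact congrArg Subtype.val h

/-- If `e` commutes with a non-identity element of a subgroup of prime order, it centralizes the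
subgroup. -/
theorem t12_comm_of_prime_card {G : Type u} [Group G] {q : ℕ} (hq : q.Prime) (B : Subgroup G)
    (hB : Nat.card B = q) {u : G} (hu : u ∈ B) (hu1 : u ≠ 1) {e : G} (he : e * u = u * e) :
    ∀ b ∈ B, e * b = b * e := by
  intro b hb
  have : Fact q.Prime := ⟨hq⟩
  have hu1' : (⟨u, hu⟩ : B) ≠ 1 := fun h => hu1 (congrArg Subtype.val h)
  have hmem : (⟨b, hb⟩ : B) ∈ Subgroup.zpowers (⟨u, hu⟩ : B) :=
    mem_zpowers_of_prime_card hB hu1'
  obtain ⟨k, hk⟩ := Subgroup.mem_zpowers_iff.mp hmem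
  have hk' : u ^ k = b := by
    have := congrArg Subtype.val hk
    simpa using this
  have hc : Commute e u := he
  rw [← hk']
  exact (hc.zpow_right k).eq

/-- The Frobenius count: if `K₀ ≠ 1` normalizes `A₂` (of prime order `q`), acts on it without
fixed points, both act coprimely on the solvable group `H`, `C_H(A₂) = 1` and all non-identity
elements of `K₀` have the same centralizer `D` in `H`, then `|H| = |D| ^ |K₀|`. -/
theorem t12_frob_count {G : Type u} [Group G] [Finite G] {q : ℕ} (hq : q.Prime)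
    (A₂ K₀ H D : Subgroup G) (hA₂q : Nat.card A₂ = q)
    (hn : K₀ ≤ Subgroup.normalizer (A₂ : Set G))
    (hfpf : ∀ e ∈ K₀, e ≠ 1 → ∀ u ∈ A₂, e * u = u * e → u = 1)
    (hGH : A₂ ⊔ K₀ ≤ Subgroup.normalizer (H : Set G)) (hsolv : Group.IsSolvable H)
    (hcop : Nat.Coprime (Nat.card H) (Nat.card ↥(A₂ ⊔ K₀)))
    (hA₂H : H ⊓ Subgroup.centralizer (A₂ : Set G) = ⊥)
    (hK₀ : K₀ ≠ ⊥)
    (hD : ∀ e ∈ K₀, e ≠ 1 → H ⊓ Subgroup.centralizer ({e} : Set G) = D)
    (hDK : D ≤ Subgroup.centralizer (K₀ : Set G)) :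
    Nat.card H = Nat.card D ^ Nat.card K₀ := by
  have : Fact q.Prime := ⟨hq⟩
  have hnil : Group.IsNilpotent A₂ :=
    (IsPGroup.of_card (n := 1) (by rw [hA₂q, pow_one])).isNilpotent
  have hUn : ∀ e ∈ K₀, ∀ u ∈ A₂, e * u * e⁻¹ ∈ A₂ := fun e he u hu =>
    (Subgroup.mem_normalizer_iff.mp (hn he) u).mp hu
  have key := Cfsg.Agent.Lib.Helper97.FrobFormula.frob_formula A₂ K₀ H hUn hfpf hnil hGH hsolv hcop
  have h1 : H ⊓ Subgroup.centralizer ((A₂ ⊔ K₀ : Subgroup G) : Set G) = ⊥ := by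
    rw [eq_bot_iff, ← hA₂H]
    exact inf_le_inf_left _
      (Subgroup.centralizer_le (show (A₂ : Set G) ⊆ ((A₂ ⊔ K₀ : Subgroup G) : Set G) from
        fun x hx => (le_sup_left : A₂ ≤ A₂ ⊔ K₀) hx))
  have h2 : H ⊓ Subgroup.centralizer (K₀ : Set G) = D := by
    obtain ⟨e, he, he1⟩ : ∃ e ∈ K₀, e ≠ 1 := by
      by_contra hcon
      exact hK₀ ((Subgroup.eq_bot_iff_forall K₀).mpr
        (fun x hx => by_contra (fun hx1 => hcon ⟨x, hx, hx1⟩)))
    apply le_antisymm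
    · rw [← hD e he he1]
      exact inf_le_inf_left _ (Subgroup.centralizer_le (Set.singleton_subset_iff.mpr he))
    · have hDH : D ≤ H := by rw [← hD e he he1]; exact inf_le_left
      exact le_inf hDH hDK
  rw [h1, hA₂H, h2] at key
  simpa using key

/-- Package `PkPrime` of helper15's project T12M (steps (4), (5) of BG 13.12). -/
theorem pkPrime : PkPrime.{u} := by
  intro G _ _ hG hy M E A P p q cx hreg A₂ hA₂A hA₂q hA₂P hnorm
  have hM := cx.hM
  have hpP : p.Prime := cx.hp.1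
  have hqP : q.Prime := cx.hq.1
  have : Fact q.Prime := ⟨hqP⟩
  have hEM : E ≤ M := cx.hE.1
  have hsM : sigmaCore M ≤ M := sigmaCore_le M
  have hEne : E ≠ ⊤ := fun h => hM.1 (top_le_iff.mp (h ▸ hEM))
  have hsne : sigmaCore M ≠ ⊤ := fun h => hM.1 (top_le_iff.mp (h ▸ hsM))
  have hsolvE : Group.IsSolvable E := hG.2.2.2 E hEne
  have hsolvS : Group.IsSolvable (sigmaCore M) := hG.2.2.2 _ hsne
  -- the Hall `τ₁`-subgroup `E₁ ≥ P`
  have hPpi : ∀ r : ℕ, r.Prime → r ∣ Nat.card P → r ∈ tau1 M := by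
    intro r hr hdvd
    rw [cx.hP] at hdvd
    rw [(Nat.prime_dvd_prime_iff_eq hr hpP).mp hdvd]
    exact cx.hp
  obtain ⟨E₁, hE₁, hPE₁⟩ := exists_piHallOf_ge (tau1 M) E hsolvE P cx.hPE hPpi
  have hE₁E : E₁ ≤ E := hE₁.1
  have hE₁c : IsCyclic E₁ := (hy.h1415 M hM E cx.hE).2.1 E₁ hE₁
  have hsp := Cfsg.Agent.Lib.Helper85.BG.tau1_semiprime hG hy.h1415 hy.h1427 hy.h1428 M hM E
    cx.hE E₁ hE₁
  set D : Subgroup G := sigmaCore M ⊓ Subgroup.centralizer (E₁ : Set G) with hDdef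
  -- `P ≠ 1`
  have hP1 : P ≠ ⊥ := by
    intro h
    have h1 : Nat.card P = 1 := by rw [h]; exact Subgroup.card_bot
    rw [cx.hP] at h1
    exact hpP.one_lt.ne' h1
  obtain ⟨x, hxP, hx1⟩ : ∃ x ∈ P, x ≠ 1 := by
    by_contra hcon
    exact hP1 ((Subgroup.eq_bot_iff_forall P).mpr
      (fun x hx => by_contra (fun hx1 => hcon ⟨x, hx, hx1⟩)))
  have hE₁1 : E₁ ≠ ⊥ := fun h => hP1 (le_bot_iff.mp (h ▸ hPE₁))
  -- `C_{M_σ}(P) = D`
  have hDP : sigmaCore M ⊓ Subgroup.centralizer (P : Set G) = D := by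
    apply le_antisymm
    · rw [← hsp x (hPE₁ hxP) hx1]
      exact inf_le_inf_left _ (Subgroup.centralizer_le (Set.singleton_subset_iff.mpr hxP))
    · exact inf_le_inf_left _ (Subgroup.centralizer_le hPE₁)
  have hD1 : D ≠ ⊥ := by rw [← hDP]; exact cx.hD
  -- `C_{M_σ}(A₂) = 1`
  have hA₂1 : A₂ ≠ ⊥ := by
    intro h
    have h1 : Nat.card A₂ = 1 := by rw [h]; exact Subgroup.card_bot
    rw [hA₂q] at h1
    exact hqP.one_lt.ne' h1
  have hA₂ne : A₂ ≠ A ⊓ Subgroup.centralizer (P : Set G) := by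
    intro h
    have h1 : A₂ ≤ Subgroup.centralizer (P : Set G) := by rw [h]; exact inf_le_right
    exact hA₂1 (by rw [← hA₂P]; exact (inf_eq_left.mpr h1).symm)
  have hA₂E : A₂ ≤ E := hA₂A.trans cx.hAE
  have hCA₂ : sigmaCore M ⊓ Subgroup.centralizer (A₂ : Set G) = ⊥ := hreg A₂ hA₂E hA₂q hA₂ne
  -- `E₁` normalizes `A₂`
  have hENA : E ≤ Subgroup.normalizer (A : Set G) :=
    (hy.h1418 M hM E cx.hE q cx.hq A ⟨cx.hAE, cx.hAe, cx.hA2⟩).1.1
  have hE₁N : E₁ ≤ Subgroup.normalizer (A₂ : Set G) := by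
    intro e he
    exact hnorm e (hENA (hE₁E he)) (fun y hy' => t12_comm_of_isCyclic E₁ hE₁c he (hPE₁ hy'))
  have hMN : M ≤ Subgroup.normalizer (sigmaCore M : Set G) := sigmaCore_normalizer M
  -- coprimality
  have hHall : IsPiHallOf (sigma M) (sigmaCore M) M := (hy.h1350 M hM).1
  have hcopE : (Nat.card (sigmaCore M)).Coprime (Nat.card E) := by
    rw [← Cfsg.Agent.Lib.Helper35.BG.relIndex_right_of_isComplIn cx.hE]
    apply Nat.coprime_of_dvd
    intro r hr h1 h2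
    exact hHall.2.2 r hr (hHall.2.1 r hr h1) h2
  -- the element `x ∈ P` moves every non-identity element of `A₂`
  have hxA₂ : ∀ a ∈ A₂, x * a = a * x → a = 1 := by
    intro a ha hax
    have hall : ∀ y ∈ P, a * y = y * a := by
      have h1 := t12_comm_of_prime_card hpP P cx.hP hxP hx1 (e := a) hax.symm
      exact h1
    have hmem : a ∈ A₂ ⊓ Subgroup.centralizer (P : Set G) := by
      refine Subgroup.mem_inf.mpr ⟨ha, ?_⟩
      rw [Subgroup.mem_centralizer_iff]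
      intro y hy'
      exact (hall y hy').symm
    rw [hA₂P] at hmem
    exact Subgroup.mem_bot.mp hmem
  -- fixed-point-freeness of `E₁` on `A₂`
  have hfpf : ∀ e ∈ E₁, e ≠ 1 → ∀ u ∈ A₂, e * u = u * e → u = 1 := by
    intro e he he1 u hu heu
    by_contra hu1
    -- `e` centralizes `A₂`
    have hcent : ∀ b ∈ A₂, e * b = b * e := t12_comm_of_prime_card hqP A₂ hA₂q hu hu1 heu
    have hDe : sigmaCore M ⊓ Subgroup.centralizer ({e} : Set G) = D := hsp e he he1
    -- `A₂` normalizes `D`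
    have hconj : ∀ a ∈ A₂, ∀ d ∈ D, a * d * a⁻¹ ∈ D := by
      intro a ha d hd
      rw [← hDe] at hd ⊢
      obtain ⟨hd1, hd2⟩ := Subgroup.mem_inf.mp hd
      refine Subgroup.mem_inf.mpr ⟨?_, ?_⟩
      · exact (Subgroup.mem_normalizer_iff.mp (hMN (hEM (hA₂E ha))) d).mp hd1
      · rw [Subgroup.mem_centralizer_iff] at hd2 ⊢
        intro z hz
        rw [Set.mem_singleton_iff] at hz
        subst hz
        have h1 : z * d = d * z := hd2 z (Set.mem_singleton z)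
        have h2 : z * a = a * z := hcent a ha
        have h3 : z * a⁻¹ = a⁻¹ * z := by
          calc z * a⁻¹ = a⁻¹ * (a * z) * a⁻¹ := by group
            _ = a⁻¹ * (z * a) * a⁻¹ := by rw [h2]
            _ = a⁻¹ * z := by group
        calc z * (a * d * a⁻¹) = (z * a) * d * a⁻¹ := by group
          _ = a * (z * d) * a⁻¹ := by rw [h2]; group
          _ = a * d * (z * a⁻¹) := by rw [h1]; group
          _ = a * d * a⁻¹ * z := by rw [h3]; group
    -- `x` centralizes `D`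
    have hxD : ∀ d ∈ D, x * d = d * x := by
      intro d hd
      have hd2 : d ∈ Subgroup.centralizer (E₁ : Set G) := (Subgroup.mem_inf.mp hd).2
      exact (Subgroup.mem_centralizer_iff.mp hd2 x (hPE₁ hxP))
    -- the commutator `c = u⁻¹ x u x⁻¹` lies in `A₂`, is not `1`, and centralizes `D`
    have hxu : x * u * x⁻¹ ∈ A₂ := (Subgroup.mem_normalizer_iff.mp (hE₁N (hPE₁ hxP)) u).mp hu
    have hc : u⁻¹ * (x * u * x⁻¹) ∈ A₂ := A₂.mul_mem (A₂.inv_mem hu) hxu
    have hc1 : u⁻¹ * (x * u * x⁻¹) ≠ 1 := by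
      intro h
      apply hu1
      apply hxA₂ u hu
      have h2 : x * u * x⁻¹ = u := by
        calc x * u * x⁻¹ = u * (u⁻¹ * (x * u * x⁻¹)) := by group
          _ = u := by rw [h, mul_one]
      calc x * u = (x * u * x⁻¹) * x := by group
        _ = u * x := by rw [h2]
    have hcD : ∀ d ∈ D, d * (u⁻¹ * (x * u * x⁻¹)) = (u⁻¹ * (x * u * x⁻¹)) * d := by
      intro d hd
      have h1 : x * (u * d * u⁻¹) = (u * d * u⁻¹) * x := hxD _ (hconj u hu d hd)
      have h2 : x * d = d * x := hxD d hd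
      have h3 : x⁻¹ * d = d * x⁻¹ := by
        calc x⁻¹ * d = x⁻¹ * (d * x) * x⁻¹ := by group
          _ = x⁻¹ * (x * d) * x⁻¹ := by rw [h2]
          _ = d * x⁻¹ := by group
      calc d * (u⁻¹ * (x * u * x⁻¹)) = u⁻¹ * ((u * d * u⁻¹) * x) * u * x⁻¹ := by group
        _ = u⁻¹ * (x * (u * d * u⁻¹)) * u * x⁻¹ := by rw [h1]
        _ = u⁻¹ * x * u * (d * x⁻¹) := by group
        _ = u⁻¹ * x * u * (x⁻¹ * d) := by rw [h3]
        _ = (u⁻¹ * (x * u * x⁻¹)) * d := by group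
    -- so `D ≤ C_{M_σ}(A₂) = 1`
    apply hD1
    rw [eq_bot_iff, ← hCA₂]
    intro d hd
    refine Subgroup.mem_inf.mpr ⟨(Subgroup.mem_inf.mp hd).1, ?_⟩
    rw [Subgroup.mem_centralizer_iff]
    intro b hb
    have := t12_comm_of_prime_card hqP A₂ hA₂q hc hc1 (e := d) (hcD d hd) b hb
    exact this.symm
  -- the count for every non-trivial `K₀ ≤ E₁`
  have hcount : ∀ K₀ : Subgroup G, K₀ ≤ E₁ → K₀ ≠ ⊥ →
      Nat.card (sigmaCore M) = Nat.card D ^ Nat.card K₀ := by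
    intro K₀ hK₀ hK₀1
    have hsup : A₂ ⊔ K₀ ≤ E := sup_le hA₂E (hK₀.trans hE₁E)
    apply t12_frob_count hqP A₂ K₀ (sigmaCore M) D hA₂q (hK₀.trans hE₁N)
      (fun e he he1 u hu h => hfpf e (hK₀ he) he1 u hu h)
      (hsup.trans (hEM.trans hMN)) hsolvS
      (Nat.Coprime.coprime_dvd_right (Subgroup.card_dvd_of_le hsup) hcopE) hCA₂ hK₀1
      (fun e he he1 => hsp e (hK₀ he) he1)
    exact inf_le_right.trans (Subgroup.centralizer_le hK₀)
  have hc1 := hcount P hPE₁ hP1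
  have hc2 := hcount E₁ le_rfl hE₁1
  rw [cx.hP] at hc1
  have hDcard : 2 ≤ Nat.card D := by
    have hnt : Nontrivial D := (Subgroup.nontrivial_iff_ne_bot D).mpr hD1
    exact Finite.one_lt_card
  have hE₁card : Nat.card E₁ = p := by
    have h := hc1.symm.trans hc2
    exact (Nat.pow_right_injective hDcard h).symm
  have hmul : Nat.card E₁ * E₁.relIndex E = Nat.card E :=
    Cfsg.Agent.Lib.Helper35.BG.card_mul_relIndex' hE₁E
  rw [hE₁card] at hmul
  refine ⟨?_, ?_⟩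
  · intro r hr hdvd
    have hrP : r.Prime := hr.1
    rw [← hmul] at hdvd
    rcases (Nat.Prime.dvd_mul hrP).mp hdvd with h | h
    · exact (Nat.prime_dvd_prime_iff_eq hrP hpP).mp h
    · exact absurd h (hE₁.2.2 r hrP hr)
  · intro hdvd
    rw [← hmul, pow_two] at hdvd
    have h : p ∣ E₁.relIndex E := Nat.dvd_of_mul_dvd_mul_left hpP.pos hdvd
    exact hE₁.2.2 p hpP cx.hp h

end Cfsg.Agent.Lib.Helper67.BG
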