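import Mathlib
import Cfsg.Prelude.Def_OddOrderLocal
import Cfsg.Statements.S1350
import Cfsg.Statements.S1423
import Cfsg.Statements.S1426
import Cfsg.Statements.S1437
import Cfsg.Agent.Lib.Helper67.BG.Basics
import Cfsg.Agent.Lib.Helper67.BG.FitUtil
import Cfsg.Agent.Lib.Helper67.BG.S1357Core
import Cfsg.Agent.Lib.Helper23.NilpParts
import Cfsg.Agent.Lib.Helper35.BG.Basic
import Cfsg.Agent.Lib.Helper34.BG.S1402C
import Cfsg.Agent.Lib.Helper47.BG.SigmaNe
import Cfsg.Agent.Lib.Helper79.BG.Util2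

/-!
Bender–Glauberman: if `M_F ≠ M_σ` in a standard factorisation `M = K U M_σ` then `U = 1`, `F(M)` is
a TI-subset of `G` and `K` has prime order (statement S1357).  Second core, which does NOT use
S1440: derived from S1350, S1423, S1426 and S1437 only.

Proof of the TI property.  Let `q := |C_{M_σ}(K)|`, a prime of `β(M)`, and `Q` the normal Sylow
`q`-subgroup of `M` (S1437).  Let `g ∉ M`, `x ∈ F(M)`, `x ≠ 1`, `y := g x g⁻¹ ∈ F(M)`.  If `q`
divided the order of `x`, a power of `y` of order `q` would lie in `Q ∩ M^g ≤ M_σ ∩ M^g`, against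
S1426.  So `x` has a power `x'` of prime order `r ≠ q`; `x'` and `y' := g x' g⁻¹` lie in the
nilpotent group `F(M)` and so centralize its `q`-subgroup `Q₁` (a Sylow `q`-subgroup of `M_σ`).
Hence `C(y') ≥ Q₁, g Q₁ g⁻¹`; by S1423 a maximal subgroup over `C(y')` is `M` and also `g M g⁻¹`,
so `g ∈ N(M) = M`.
-/

set_option autoImplicit false

namespace Cfsg.Agent.Lib.Helper67.BG

open Cfsg

/-- A normal `σ(M)`-subgroup of `M` lies in `M_σ`. -/
theorem le_sigmaCore_of_normal_pi {G : Type*} [Group G] {M W : Subgroup G} (hWM : W ≤ M)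
    (hn : M ≤ Subgroup.normalizer (W : Set G))
    (hpi : ∀ p : ℕ, p.Prime → p ∣ Nat.card W → p ∈ sigma M) : W ≤ sigmaCore M := by
  have hnormal : (W.subgroupOf M).Normal :=
    (Subgroup.normal_subgroupOf_iff_le_normalizer hWM).mpr hn
  have hle : W.subgroupOf M ≤ piCore (sigma M) M := by
    apply le_sSup
    refine ⟨hnormal, ?_⟩
    intro p hp hdvd
    rw [Nat.card_congr (Subgroup.subgroupOfEquivOfLe hWM).toEquiv] at hdvd
    exact hpi p hp hdvd
  intro w hw
  exact ⟨⟨w, hWM hw⟩, hle (Subgroup.mem_subgroupOf.mpr hw), rfl⟩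

theorem s1357_core_b {G : Type*} [Group G] [Finite G] (hG : Cfsg.IsMinSimpleOddOrder G)
    (h1350 : type_of% (@Cfsg.CfsgFrozen.S1350 G _ _ hG))
    (h1423 : type_of% (@Cfsg.CfsgFrozen.S1423 G _ _ hG))
    (h1426 : type_of% (@Cfsg.CfsgFrozen.S1426 G _ _ hG))
    (h1437 : type_of% (@Cfsg.CfsgFrozen.S1437 G _ _ hG))
    (M : Subgroup G) (hM : IsCoatom M) (K U : Subgroup G) (hKU : Cfsg.IsSigmaDecomposition M K U)
    (hne : Cfsg.fittingHallOf M ≠ Cfsg.sigmaCore M) :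
    U = ⊥ ∧ Cfsg.IsTISubset (Cfsg.fittingOf M : Set G) ∧ (Nat.card K).Prime := by
  obtain ⟨hU, -, hKp, hqp, -, hqβ, Q, hQH, hQn, hQq, hQidx, -⟩ := h1437 M hM K U hKU hne
  obtain ⟨hHall, -, -⟩ := h1350 M hM
  refine ⟨hU, ?_, hKp⟩
  intro g hg x hx hgx
  by_contra hx1
  have hgM : g ∉ M := fun h => hg (fittingOf_normalizer M h)
  -- the prime `q = |K*|`
  generalize hqdef : Nat.card ↥(sigmaCore M ⊓ Subgroup.centralizer (K : Set G)) = q at *
  have hqF : Fact q.Prime := ⟨hqp⟩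
  have hQM : Q ≤ M := hQH.trans (fittingHallOf_le M)
  have hqσ : q ∈ sigma M := by
    apply sigmaCore_isPi M q hqp
    rw [← hqdef]
    exact Subgroup.card_dvd_of_le inf_le_left
  -- `q` does not divide `|M : Q|`
  have hQidxM : ¬ q ∣ Q.relIndex M := by
    intro hdvd
    have h1 : (Q ⊓ sigmaCore M).relIndex (sigmaCore M) * (sigmaCore M).relIndex M =
        (Q ⊓ sigmaCore M).relIndex M :=
      Subgroup.relIndex_mul_relIndex _ _ _ inf_le_right (sigmaCore_le M)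
    have h2 : (Q ⊓ sigmaCore M).relIndex Q * Q.relIndex M = (Q ⊓ sigmaCore M).relIndex M :=
      Subgroup.relIndex_mul_relIndex _ _ _ inf_le_left hQM
    rw [Subgroup.inf_relIndex_right] at h1
    have h3 : q ∣ Q.relIndex (sigmaCore M) * (sigmaCore M).relIndex M := by
      rw [h1, ← h2]
      exact dvd_mul_of_dvd_right hdvd _
    rcases (Nat.Prime.dvd_mul hqp).mp h3 with h | h
    · exact hQidx h
    · exact hHall.2.2 q hqp hqσ h
  -- `Q ≤ M_σ` and `Q ≤ F(M)`
  have hQσ : Q ≤ sigmaCore M := by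
    apply le_sigmaCore_of_normal_pi hQM hQn
    intro p hp hdvd
    rw [prime_eq_of_dvd_card_isPGroup hQq hp hdvd]
    exact hqσ
  have hQF : Q ≤ fittingOf M := le_fittingOf_of_normal_nilpotent hQM hQn hQq.isNilpotent
  have hFM : fittingOf M ≤ M := fittingOf_le M
  have hFnil : Group.IsNilpotent (fittingOf M) := fittingOf_isNilpotent M
  -- S1426
  obtain ⟨E, hE⟩ := exists_compl_sigmaCore M hHall
  obtain ⟨-, -, h26⟩ := h1426 M hM E hE
  obtain ⟨-, hβ, -⟩ := h26 g hgM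
  -- powers of `x` and their conjugates
  have hpowF : ∀ n : ℕ, x ^ n ∈ fittingOf M := fun n => (fittingOf M).pow_mem hx n
  have hconjF : ∀ n : ℕ, g * x ^ n * g⁻¹ ∈ fittingOf M := by
    intro n
    rw [← conj_pow]
    exact (fittingOf M).pow_mem hgx n
  have hord : ∀ z : G, orderOf (g * z * g⁻¹) = orderOf z := fun z =>
    orderOf_injective (MulAut.conj g).toMonoidHom (MulAut.conj g).injective z
  -- `q` does not divide the order of `x`
  have hqx : ¬ q ∣ orderOf x := by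
    intro hdvd
    have ho : orderOf (x ^ (orderOf x / q)) = q :=
      orderOf_pow_orderOf_div (orderOf_pos x).ne' hdvd
    set x₂ := x ^ (orderOf x / q) with hx₂
    have hy₂F : g * x₂ * g⁻¹ ∈ fittingOf M := hconjF _
    have hy₂o : orderOf (g * x₂ * g⁻¹) = q := by rw [hord, ho]
    have hz : IsPGroup q (Subgroup.zpowers (g * x₂ * g⁻¹)) :=
      IsPGroup.of_card (n := 1) (by rw [Nat.card_zpowers, hy₂o, pow_one])
    have hzQ : Subgroup.zpowers (g * x₂ * g⁻¹) ≤ Q :=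
      le_of_normal_sylow hQM hQn hQq hQidxM ((Subgroup.zpowers_le).mpr (hFM hy₂F)) hz
    have hmem : g * x₂ * g⁻¹ ∈ sigmaCore M ⊓ M.map (MulAut.conj g).toMonoidHom := by
      refine Subgroup.mem_inf.mpr ⟨hQσ (hzQ (Subgroup.mem_zpowers _)), ?_⟩
      exact ⟨x₂, hFM (hpowF _), rfl⟩
    have hdvd2 : q ∣ Nat.card ↥(sigmaCore M ⊓ M.map (MulAut.conj g).toMonoidHom) := by
      rw [← hy₂o]
      exact Subgroup.orderOf_dvd_natCard _ hmem
    exact hβ q hqp hdvd2 hqβ
  -- a power `x'` of `x` of prime order `r ≠ q`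
  have hox : orderOf x ≠ 1 := fun h => hx1 (orderOf_eq_one_iff.mp h)
  obtain ⟨r, hr, hrdvd⟩ := Nat.exists_prime_and_dvd hox
  have hrq : r ≠ q := fun h => hqx (h ▸ hrdvd)
  have ho' : orderOf (x ^ (orderOf x / r)) = r :=
    orderOf_pow_orderOf_div (orderOf_pos x).ne' hrdvd
  set x' := x ^ (orderOf x / r) with hx'
  have hx'F : x' ∈ fittingOf M := hpowF _
  have hy'F : g * x' * g⁻¹ ∈ fittingOf M := hconjF _
  have hy'o : orderOf (g * x' * g⁻¹) = r := by rw [hord, ho']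
  have hy'1 : g * x' * g⁻¹ ≠ 1 := by
    intro h
    rw [h, orderOf_one] at hy'o
    exact hr.one_lt.ne hy'o
  -- a Sylow `q`-subgroup `Q₁` of `M_σ` and S1423
  obtain ⟨P⟩ := (inferInstance : Nonempty (Sylow q ↥(sigmaCore M)))
  obtain ⟨c, hc⟩ := exists_prime_orderOf_dvd_card' (G := ↥M) q hqσ.2.1
  have hXM : Subgroup.zpowers (c : G) ≤ M := (Subgroup.zpowers_le).mpr c.2
  have hXq : Nat.card (Subgroup.zpowers (c : G)) = q := by
    rw [Nat.card_zpowers, Subgroup.orderOf_coe, hc]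
  obtain ⟨-, huniq, hQ₁M⟩ := h1423 M hM q hqσ (Subgroup.zpowers (c : G)) hXM hXq P (Or.inl hqβ)
  set Q₁ : Subgroup G := (P : Subgroup ↥(sigmaCore M)).map (sigmaCore M).subtype with hQ₁
  have hQ₁q : IsPGroup q Q₁ := P.isPGroup'.map _
  have hQ₁Q : Q₁ ≤ Q := le_of_normal_sylow hQM hQn hQq hQidxM hQ₁M hQ₁q
  -- elements of order `r` of `F(M)` centralize `Q₁`
  have hcomm : ∀ z ∈ fittingOf M, orderOf z = r → ∀ a ∈ Q₁, z * a = a * z := by
    intro z hz hzo a ha
    apply Cfsg.Agent.Lib.Helper23.comm_of_coprime_orderOf hFnil hz (hQF (hQ₁Q ha))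
    rw [hzo]
    obtain ⟨k, hk⟩ := (IsPGroup.iff_orderOf.mp hQ₁q) ⟨a, ha⟩
    rw [Subgroup.orderOf_mk] at hk
    rw [hk]
    exact Nat.Coprime.pow_right k ((Nat.coprime_primes hr hqp).mpr hrq)
  -- a maximal subgroup over `C(y')`
  have hCne : Subgroup.centralizer ({g * x' * g⁻¹} : Set G) ≠ ⊤ :=
    Cfsg.Agent.Lib.Helper34.BG.centralizer_singleton_ne_top hG hy'1
  obtain ⟨L, hL, hCL⟩ := Cfsg.Agent.Lib.Helper35.BG.exists_coatom_ge hCne
  have hQ₁L : Q₁ ≤ L := by
    intro a ha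
    apply hCL
    rw [Subgroup.mem_centralizer_iff]
    intro h hh
    rw [Set.mem_singleton_iff] at hh
    subst hh
    exact hcomm _ hy'F hy'o a ha
  have hLM : L = M := huniq.unique ⟨hL, hQ₁L⟩ ⟨hM, hQ₁M⟩
  have hconjL : ∀ a ∈ Q₁, g * a * g⁻¹ ∈ M := by
    intro a ha
    rw [← hLM]
    apply hCL
    rw [Subgroup.mem_centralizer_iff]
    intro h hh
    rw [Set.mem_singleton_iff] at hh
    subst hh
    have h1 : x' * a = a * x' := hcomm x' hx'F ho' a ha
    calc g * x' * g⁻¹ * (g * a * g⁻¹) = g * (x' * a) * g⁻¹ := by group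
      _ = g * (a * x') * g⁻¹ := by rw [h1]
      _ = g * a * g⁻¹ * (g * x' * g⁻¹) := by group
  -- `g⁻¹ M g` is a maximal subgroup containing `Q₁`, so it is `M`
  have hM' : IsCoatom (M.map (MulAut.conj g⁻¹).toMonoidHom) :=
    Cfsg.Agent.Lib.Helper79.BG.isCoatom_map_conj hM g⁻¹
  have hQ₁M' : Q₁ ≤ M.map (MulAut.conj g⁻¹).toMonoidHom := by
    intro a ha
    refine ⟨g * a * g⁻¹, hconjL a ha, ?_⟩
    change g⁻¹ * (g * a * g⁻¹) * g⁻¹⁻¹ = a
    group
  have hMM' : M.map (MulAut.conj g⁻¹).toMonoidHom = M := huniq.unique ⟨hM', hQ₁M'⟩ ⟨hM, hQ₁M⟩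
  -- hence `g ∈ N(M) = M`
  have hM1 : M ≠ ⊥ := by
    intro h
    have : x ∈ M := hFM hx
    rw [h, Subgroup.mem_bot] at this
    exact hx1 this
  have hNM : Subgroup.normalizer (M : Set G) = M :=
    Cfsg.Agent.Lib.Helper47.BG.normalizer_eq_of_coatom hG hM le_rfl hM1 Subgroup.le_normalizer
  have hg'N : g⁻¹ ∈ Subgroup.normalizer (M : Set G) := by
    rw [Subgroup.mem_normalizer_iff]
    intro h
    constructor
    · intro hh
      rw [← hMM']
      exact ⟨h, hh, rfl⟩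
    · intro hh
      rw [← hMM'] at hh
      obtain ⟨m, hm, hmh⟩ := hh
      have hmh' : g⁻¹ * m * g⁻¹⁻¹ = g⁻¹ * h * g⁻¹⁻¹ := hmh
      have : m = h := by
        have := congrArg (fun t => g * t * g⁻¹) hmh'
        simpa [mul_assoc] using this
      rw [← this]
      exact hm
  rw [hNM] at hg'N
  exact hgM (by simpa using M.inv_mem hg'N)

end Cfsg.Agent.Lib.Helper67.BG
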